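import Groth.Agent.Lib.FrobTr12.Algebra
import Groth.Agent.Lib.Trace12.Rank
import Groth.Agent.Lib.CohFound.AffMor
import Groth.Agent.Lib.CohFound.HHBridge
import Groth.Agent.Lib.FrobUH12.Basic
import Groth.Prelude.Def_Omega4
import Groth.Prelude.Def_RelSpec2

/-!
# Cohomology of `B¹` descends along double covers in odd characteristic
-/

set_option autoImplicit false
universe u

set_option linter.style.haveILetI false
set_option backward.isDefEq.respectTransparency false

open CategoryTheory CategoryTheory.Limits AlgebraicGeometry Opposite TopologicalSpace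

namespace Groth.Agent.FrobTr12

open Groth.Agent.M1 Groth.Agent.CohFound

variable {X Y : Scheme.{u}}

/-- A morphism of modules from compatible linear maps on sections. -/
noncomputable def mkMap {M N : X.Modules} (φ : ∀ U : X.Opens, Γ(M, U) → Γ(N, U))
    (hadd : ∀ (U : X.Opens) (a b : Γ(M, U)), φ U (a + b) = φ U a + φ U b)
    (hres : ∀ {U V : X.Opens} (h : V ≤ U) (a : Γ(M, U)), φ V (mres M h a) = mres N h (φ U a))
    (hsmul : ∀ (U : X.Opens) (r : Γ(X, U)) (a : Γ(M, U)), φ U (r • a) = r • φ U a) : M ⟶ N :=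
  ⟨PresheafOfModules.homMk
    { app := fun U => AddCommGrpCat.ofHom (AddMonoidHom.mk' (fun a => φ U.unop a) (hadd U.unop))
      naturality := fun U V i => by
        ext a
        exact hres i.unop.le a }
    (fun U r a => hsmul U.unop r a)⟩

theorem mkMap_app {M N : X.Modules} (φ : ∀ U : X.Opens, Γ(M, U) → Γ(N, U))
    (hadd : ∀ (U : X.Opens) (a b : Γ(M, U)), φ U (a + b) = φ U a + φ U b)
    (hres : ∀ {U V : X.Opens} (h : V ≤ U) (a : Γ(M, U)), φ V (mres M h a) = mres N h (φ U a))
    (hsmul : ∀ (U : X.Opens) (r : Γ(X, U)) (a : Γ(M, U)), φ U (r • a) = r • φ U a) (U : X.Opens) (a : Γ(M, U)) :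
    (mkMap φ hadd hres hsmul).app U a = φ U a := rfl

theorem bijective_app_of_affine {M N : X.Modules} (φ : M ⟶ N)
    (h : ∀ U : X.Opens, IsAffineOpen U → Function.Bijective (φ.app U)) (V : X.Opens) :
    Function.Bijective (φ.app V) := by
  have hinj : ∀ V, Function.Injective (φ.app V) := fun V a b hab => by
    let ι := {U : X.Opens // IsAffineOpen U ∧ U ≤ V}
    have hcov : V ≤ ⨆ i : ι, i.1 := fun x hx => by
      obtain ⟨U, hU, hxU, hle⟩ := exists_isAffineOpen_mem_and_subset (show x ∈ V from hx)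
      exact Opens.mem_iSup.2 ⟨⟨U, hU, hle⟩, hxU⟩
    refine modules_eq_of_locally_eq M V (fun i : ι => i.1) (fun i => i.2.2) hcov a b fun i => ?_
    refine (h i.1 i.2.1).1 ?_
    show φ.app i.1 (mres M i.2.2 a) = φ.app i.1 (mres M i.2.2 b)
    rw [app_mres, app_mres, hab]
  refine ⟨hinj V, fun n => ?_⟩
  let ι := {U : X.Opens // IsAffineOpen U ∧ U ≤ V}
  have hcov : V ≤ ⨆ i : ι, i.1 := fun x hx => by
    obtain ⟨U, hU, hxU, hle⟩ := exists_isAffineOpen_mem_and_subset (show x ∈ V from hx)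
    exact Opens.mem_iSup.2 ⟨⟨U, hU, hle⟩, hxU⟩
  choose m hm using fun i : ι => (h i.1 i.2.1).2 (mres N i.2.2 n)
  obtain ⟨g, hg, -⟩ := TopCat.Sheaf.existsUnique_gluing' ⟨_, M.isSheaf⟩ (fun i : ι => i.1) V
    (fun i => homOfLE i.2.2) hcov m fun i j => by
      show mres M (inf_le_left : i.1 ⊓ j.1 ≤ i.1) (m i) = mres M (inf_le_right : i.1 ⊓ j.1 ≤ j.1) (m j)
      refine hinj _ ?_
      rw [app_mres, app_mres, hm, hm, mres_mres, mres_mres]
  refine ⟨g, modules_eq_of_locally_eq N V (fun i : ι => i.1) (fun i => i.2.2) hcov _ _ fun i => ?_⟩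
  show mres N _ (φ.app V g) = mres N _ n
  rw [← app_mres, show mres M i.2.2 g = m i from hg i, hm]

/-- On affines, sections killed by the cokernel projection lift. -/
theorem exists_lift_of_π_eq_zero {M N : X.Modules} (u : M ⟶ N) (hM : Coh.IsQCoh M) (hN : Coh.IsQCoh N)
    {U : X.Opens} (hU : IsAffineOpen U) (a : Γ(N, U)) (ha : (cokernel.π u).app U a = 0) :
    ∃ m, u.app U m = a := by
  let k := OmegaSh.kerLift (cokernel.π u) U a ha
  have hI : Coh.IsQCoh (Abelian.image u) := isQCoh_kernel hN (isQCoh_cokernel hM hN u) (cokernel.π u)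
  obtain ⟨m, hm⟩ := app_surjective_affine_of_isQCoh hM hI (Abelian.factorThruImage u) hU k
  refine ⟨m, ?_⟩
  conv_lhs => rw [← Abelian.image.fac u]
  rw [Scheme.Modules.Hom.comp_app, CategoryTheory.comp_apply]
  exact (congrArg _ hm).trans (OmegaSh.ι_kerLift (cokernel.π u) U a ha)

/-- Affine direct images commute with cokernels of quasi-coherent modules. -/
theorem isIso_cokernelComparison (f : Y ⟶ X) [IsAffineHom f] {M N : Y.Modules} (u : M ⟶ N)
    (hM : Coh.IsQCoh M) (hN : Coh.IsQCoh N) :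
    IsIso (cokernelComparison u (Scheme.Modules.pushforward f)) := by
  let G := Scheme.Modules.pushforward f
  have hM' := isQCoh_push f hM
  have hN' := isQCoh_push f hN
  let c := cokernelComparison u G
  have hc : ∀ U : X.Opens, ∀ a : Γ(G.obj N, U),
      c.app U ((cokernel.π (G.map u)).app U a) = (cokernel.π u).app (f ⁻¹ᵁ U) a := fun U a => by
    rw [← CategoryTheory.comp_apply, ← Scheme.Modules.Hom.comp_app, π_comp_cokernelComparison]
    rfl
  refine Scheme.Modules.Hom.isIso_iff_isIso_app.2 fun V => (ConcreteCategory.isIso_iff_bijective _).2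
    (bijective_app_of_affine c (fun U hU => ⟨(injective_iff_map_eq_zero (c.app U).hom).2 fun k hk => ?_, ?_⟩) V)
  · obtain ⟨a, rfl⟩ := app_surjective_affine_of_isQCoh hN' (isQCoh_cokernel hM' hN' (G.map u))
      (cokernel.π (G.map u)) hU k
    obtain ⟨m, hm⟩ := exists_lift_of_π_eq_zero u hM hN (hU.preimage f) a ((hc U a).symm.trans hk)
    have : (cokernel.π (G.map u)).app U ((G.map u).app U m) = 0 := by
      rw [← CategoryTheory.comp_apply, ← Scheme.Modules.Hom.comp_app, cokernel.condition]; rfl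
    exact (congrArg _ hm.symm).trans this
  · intro y
    obtain ⟨a, ha⟩ := app_surjective_affine_of_isQCoh hN (isQCoh_cokernel hM hN u) (cokernel.π u)
      (hU.preimage f) y
    exact ⟨(cokernel.π (G.map u)).app U a, (hc U a).trans ha⟩

set_option linter.unusedSectionVars false

variable (p : ℕ) [Fact p.Prime] [FrobSch.IsCharP X p] [FrobSch.IsCharP Y p] (f : Y ⟶ X) [IsFinite f]

/-- `O_Y` pushed to `X` through Frobenius. -/
noncomputable abbrev FY : X.Modules :=
  (Scheme.Modules.pushforward f).obj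
    ((Scheme.Modules.pushforward (FrobSch.frob Y p)).obj (Coh.structureModule Y))

/-- The Frobenius direct image of `O_X`. -/
noncomputable abbrev FX : X.Modules :=
  (Scheme.Modules.pushforward (FrobSch.frob X p)).obj (Coh.structureModule X)

/-- Pullback of functions, on Frobenius direct images. -/
noncomputable def pullF : FX (X := X) p ⟶ FY (X := X) p f :=
  mkMap (M := FX (X := X) p) (N := FY (X := X) p f) (fun U a => (f.app U (a : Γ(X, U)) : Γ(Y, f ⁻¹ᵁ U)))
    (fun U a b => map_add (f.app U).hom a b)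
    (fun {U V} h a => (congr($(f.naturality (homOfLE h).op) (a : Γ(X, U)))))
    (fun U r a => by
      let a' : Γ(X, U) := a
      show f.app U (r ^ p * a') = (f.app U r) ^ p * f.app U a'
      rw [map_mul, map_pow])

variable (h2 : FlatMod.IsFinLocFreeOfRank 2 ((Scheme.Modules.pushforward f).obj (Coh.structureModule Y)))

/-- The direct image algebra. -/
noncomputable abbrev fAlg : RelSpec.QCAlg X := RelSpec.QCAlg.directImage f

/-- Its module is the direct image. -/
noncomputable def fAlgIso :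
    (Scheme.Modules.pushforward f).obj (Coh.structureModule Y) ≅ (fAlg f).toModule where
  hom := mkMap (M := (Scheme.Modules.pushforward f).obj (Coh.structureModule Y)) (N := (fAlg f).toModule)
    (fun _ a => a) (fun _ _ _ => rfl) (fun _ _ => rfl) (fun _ _ _ => rfl)
  inv := mkMap (M := (fAlg f).toModule) (N := (Scheme.Modules.pushforward f).obj (Coh.structureModule Y))
    (fun _ a => a) (fun _ _ _ => rfl) (fun _ _ => rfl) (fun _ _ _ => rfl)
  hom_inv_id := Scheme.Modules.hom_ext _ _ fun _ => rfl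
  inv_hom_id := Scheme.Modules.hom_ext _ _ fun _ => rfl

include h2 in
theorem rank_fAlg : FlatMod.IsFinLocFreeOfRank 2 (fAlg f).toModule := fun x => by
  obtain ⟨U, hx, ⟨e⟩⟩ := h2 x
  exact ⟨U, hx, ⟨(Scheme.Modules.restrictFunctor U.ι).mapIso (fAlgIso f).symm ≪≫ e⟩⟩

/-- The trace, on functions. -/
noncomputable def T (U : X.Opens) (a : Γ(Y, f ⁻¹ᵁ U)) : Γ(X, U) :=
  Trace12.trVal (fAlg f) (Trace12.isFinLocFree_of_rank (rank_fAlg f h2)) U a

theorem T_add (U : X.Opens) (a b : Γ(Y, f ⁻¹ᵁ U)) : T f h2 U (a + b) = T f h2 U a + T f h2 U b :=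
  map_add ((Trace12.traceHom (fAlg f) (Trace12.isFinLocFree_of_rank (rank_fAlg f h2))).app U).hom a b

theorem T_mul (U : X.Opens) (c : Γ(X, U)) (a : Γ(Y, f ⁻¹ᵁ U)) :
    T f h2 U (f.app U c * a) = c * T f h2 U a :=
  Trace12.trVal_mul (fAlg f) (Trace12.isFinLocFree_of_rank (rank_fAlg f h2)) U c a

theorem T_res {U V : X.Opens} (h : V ≤ U) (a : Γ(Y, f ⁻¹ᵁ U)) :
    T f h2 V (Y.presheaf.map (homOfLE (f.preimage_mono h)).op a) = ores h (T f h2 U a) :=
  app_mres (Trace12.traceHom (fAlg f) (Trace12.isFinLocFree_of_rank (rank_fAlg f h2))) h a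

theorem T_locally_eq {U : X.Opens} (c d : Γ(X, U))
    (h : ∀ (W : X.Opens) (hW : W ≤ U) (e : Fin 2 → Γ((fAlg f).toModule, W)),
      P1Split.IsBas (fAlg f).toModule W e → ores hW c = ores hW d) (h2' : FlatMod.IsFinLocFreeOfRank 2 (fAlg f).toModule) :
    c = d := by
  refine TopCat.Presheaf.section_ext X.sheaf U _ _ fun x hx => ?_
  obtain ⟨W, e, hW, hxW, hle, he⟩ := Trace12.exists_affine_isBas (fAlg f) h2' (show x ∈ U from hx)
  have := congrArg (X.presheaf.germ W x hxW) (h W hle e he)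
  erw [X.presheaf.germ_res_apply, X.presheaf.germ_res_apply] at this
  exact this

theorem T_eq_tr {U W : X.Opens} (hW : W ≤ U) (e : Fin 2 → Γ((fAlg f).toModule, W))
    (he : P1Split.IsBas (fAlg f).toModule W e) (a : Γ(Y, f ⁻¹ᵁ U)) :
    ores hW (T f h2 U a) = Trace12.tr (fAlg f) W (Y.presheaf.map (homOfLE (f.preimage_mono hW)).op a) :=
  Trace12.ores_trVal (fAlg f) _ _ hW ⟨2, e, he⟩

theorem T_one (U : X.Opens) : T f h2 U 1 = 2 := by
  refine T_locally_eq f _ _ (fun W hW e he => ?_) (rank_fAlg f h2)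
  rw [T_eq_tr f h2 hW e he, map_one, map_ofNat,
    show (1 : Γ(Y, f ⁻¹ᵁ W)) = ((fAlg f).str.app (op W)).hom 1 from (map_one _).symm,
    Trace12.tr_str (fAlg f) he]
  simp

theorem T_pow (U : X.Opens) (a : Γ(Y, f ⁻¹ᵁ U)) : T f h2 U (a ^ p) = T f h2 U a ^ p := by
  refine T_locally_eq f _ _ (fun W hW e he => ?_) (rank_fAlg f h2)
  rw [T_eq_tr f h2 hW e he, map_pow (ores hW).hom, T_eq_tr f h2 hW e he, map_pow]
  letI := Trace12.alg (fAlg f) W
  obtain ⟨b, -⟩ := Trace12.exists_basis (fAlg f) he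
  exact trace_pow_prime (R := Γ(X, W)) p (FrobSch.natCast_eq_zero_app X p W) b _

/-- The trace, on Frobenius direct images. -/
noncomputable def traceF : FY (X := X) p f ⟶ FX (X := X) p :=
  mkMap (M := FY (X := X) p f) (N := FX (X := X) p) (fun U a => (T f h2 U (a : Γ(Y, f ⁻¹ᵁ U)) : Γ(X, U)))
    (fun U a b => T_add f h2 U a b)
    (fun {U V} h a => T_res f h2 h (a : Γ(Y, f ⁻¹ᵁ U)))
    (fun U r a => by
      let a' : Γ(Y, f ⁻¹ᵁ U) := a
      show T f h2 U ((f.app U r) ^ p * a') = r ^ p * T f h2 U a'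
      rw [← map_pow, T_mul])

/-- The trace, on direct images. -/
noncomputable def trace0 :
    (Scheme.Modules.pushforward f).obj (Coh.structureModule Y) ⟶ Coh.structureModule X :=
  (fAlgIso f).hom ≫ Trace12.traceHom (fAlg f) (Trace12.isFinLocFree_of_rank (rank_fAlg f h2))

theorem trace_comm :
    (Scheme.Modules.pushforward f).map (ClSub.unitToPush (FrobSch.frob Y p)) ≫ traceF p f h2 =
      trace0 f h2 ≫ ClSub.unitToPush (FrobSch.frob X p) := by
  refine Scheme.Modules.hom_ext _ _ fun U => ?_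
  ext (a : Γ(Y, f ⁻¹ᵁ U))
  show T f h2 U ((FrobSch.frob Y p).app (f ⁻¹ᵁ U) a) = (FrobSch.frob X p).app U (T f h2 U a)
  rw [FrobSch.frob_app, FrobSch.frob_app]
  exact T_pow p f h2 U a

theorem pull_comm :
    ClSub.unitToPush f ≫ (Scheme.Modules.pushforward f).map (ClSub.unitToPush (FrobSch.frob Y p)) =
      ClSub.unitToPush (FrobSch.frob X p) ≫ pullF p f := by
  refine Scheme.Modules.hom_ext _ _ fun U => ?_
  ext (a : Γ(X, U))
  show (FrobSch.frob Y p).app (f ⁻¹ᵁ U) (f.app U a) = f.app U ((FrobSch.frob X p).app U a)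
  rw [FrobSch.frob_app, FrobSch.frob_app, map_pow]

theorem pull_trace : pullF p f ≫ traceF p f h2 = 𝟙 (FX (X := X) p) + 𝟙 _ := by
  refine Scheme.Modules.hom_ext _ _ fun U => ?_
  ext (a : Γ(X, U))
  show T f h2 U (f.app U a) = a + a
  rw [← mul_one (f.app U a), T_mul, T_one, mul_two]

theorem app_sum_id {M : X.Modules} (n : ℕ) (U : X.Opens) (a : Γ(M, U)) :
    (n • 𝟙 M : M ⟶ M).app U a = (n : Γ(X, U)) • a := by
  induction n with
  | zero => simp
  | succ k ih => rw [succ_nsmul, Scheme.Modules.Hom.add_app, Nat.cast_succ, add_smul, one_smul, ← ih]; rfl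

include h2 in
theorem subsingleton_HH_descend (hp : p ≠ 2)
    (hY : ∀ i : ℕ, Subsingleton (Coh.HH Y (cokernel (ClSub.unitToPush (FrobSch.frob Y p))) i)) (i : ℕ) :
    Subsingleton (Coh.HH X (cokernel (ClSub.unitToPush (FrobSch.frob X p))) i) := by
  haveI := FrobUH12.isIntegralHom_frob (X := Y) (p := p)
  let uX := ClSub.unitToPush (FrobSch.frob X p)
  let uY := ClSub.unitToPush (FrobSch.frob Y p)
  let G := Scheme.Modules.pushforward f
  have hO : Coh.IsQCoh (Coh.structureModule Y) := isQCoh_structureModule Y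
  have hFO := isQCoh_push (FrobSch.frob Y p) hO
  haveI : Coh.IsQCoh (cokernel uY) := isQCoh_cokernel hO hFO uY
  haveI := isIso_cokernelComparison f uY hO hFO
  obtain ⟨e⟩ := nonempty_hc_push_isAffineHom f (cokernel uY) i ⊤
  have hK : Subsingleton (Hc ((abF X).obj (cokernel (G.map uY))) i ⊤) := by
    haveI : Subsingleton (Hc ((abF Y).obj (cokernel uY)) i (f ⁻¹ᵁ ⊤)) := (subsingleton_HH_iff _ _).1 (hY i)
    exact ((mpEquiv ((abF X).mapIso (asIso (cokernelComparison uY G))) i ⊤).trans e).toEquiv.subsingleton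
  let α := cokernel.map uX (G.map uY) (ClSub.unitToPush f) (pullF p f) (pull_comm p f).symm
  let β := cokernel.map (G.map uY) uX (trace0 f h2) (traceF p f h2) (trace_comm p f h2)
  have hαβ : α ≫ β = 𝟙 _ + 𝟙 _ := by
    apply coequalizer.hom_ext
    simp only [α, β, cokernel.map]
    rw [← Category.assoc, cokernel.π_desc, Category.assoc, cokernel.π_desc, ← Category.assoc, pull_trace,
      Preadditive.comp_add, Category.comp_id, Preadditive.add_comp, Category.id_comp]
  have hpz : (p • 𝟙 (cokernel uX) : cokernel uX ⟶ cokernel uX) = 0 := by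
    refine Scheme.Modules.hom_ext _ _ fun U => ?_
    ext a
    rw [app_sum_id, FrobSch.natCast_eq_zero_app X p U, zero_smul]
    rfl
  rw [subsingleton_HH_iff]
  refine subsingleton_of_forall_eq 0 fun x => ?_
  have h2x : x + x = 0 := by
    have h := congrArg (fun g => mp g i ⊤ x) (congrArg (abF X).map hαβ)
    simp only [Functor.map_comp, Functor.map_add] at h
    rw [mp_comp, mp_add, show (abF X).map (𝟙 (cokernel uX)) = 𝟙 _ from (abF X).map_id _, mp_id] at h
    rw [← h, hK.elim (mp ((abF X).map α) i ⊤ x) 0, map_zero]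
  have hpx : p • x = 0 := by
    have : ∀ k : ℕ, mp ((abF X).map (k • 𝟙 (cokernel uX))) i ⊤ x = k • x := by
      intro k
      induction k with
      | zero => rw [zero_smul, zero_smul, Functor.map_zero, mp_zero]
      | succ k ih => rw [succ_nsmul, succ_nsmul, Functor.map_add, mp_add, ih, show (abF X).map (𝟙 (cokernel uX)) = 𝟙 _ from (abF X).map_id _, mp_id]
    rw [← this, hpz, Functor.map_zero, mp_zero]
  obtain ⟨k, hk⟩ := ((Fact.out : p.Prime).odd_of_ne_two hp)
  rw [show p • x = (2 * k + 1) • x by rw [← hk], add_nsmul, one_nsmul, mul_nsmul', two_nsmul] at hpx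
  rw [← nsmul_add, h2x, nsmul_zero, zero_add] at hpx
  exact hpx

end Groth.Agent.FrobTr12
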