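import Mathlib.LinearAlgebra.Matrix.Charpoly.Coeff
import Mathlib.RingTheory.Trace.Basic
import Mathlib.RingTheory.AdjoinRoot
import Mathlib.Algebra.CharP.Lemmas

/-!
# The trace commutes with Frobenius in rank two
-/

universe u

open Polynomial

namespace Groth.Agent.FrobTr12

variable {R : Type u} [CommRing R]

theorem add_pow_prime {S : Type u} [CommRing S] (p : ℕ) [Fact p.Prime] (h : (p : S) = 0) (a b : S) :
    (a + b) ^ p = a ^ p + b ^ p := by
  rcases subsingleton_or_nontrivial S with hS | hS
  · exact Subsingleton.elim _ _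
  · have : CharP S p := (CharP.charP_iff_prime_eq_zero Fact.out).2 h
    exact add_pow_char (x := a) (y := b) (p := p)

theorem trace_pow_prime_fin_two (p : ℕ) [Fact p.Prime] (hp : (p : R) = 0) (M : Matrix (Fin 2) (Fin 2) R) :
    (M ^ p).trace = M.trace ^ p := by
  nontriviality R
  let q : R[X] := X ^ 2 + (C (-M.trace) * X + C M.det)
  have hdeg : (C (-M.trace) * X + C M.det).degree < ((2 : ℕ) : WithBot ℕ) :=
    lt_of_le_of_lt degree_linear_le (by exact_mod_cast Nat.one_lt_two)
  have hq : q.Monic := monic_X_pow_add hdeg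
  let ι := AdjoinRoot.of q
  have hinj : Function.Injective ι := (injective_iff_map_eq_zero ι).2 fun r hr => by
    have hd : q ∣ C r := AdjoinRoot.mk_eq_zero.1 hr
    by_contra hr0
    refine hq.not_dvd_of_degree_lt (C_ne_zero.2 hr0) ?_ hd
    rw [degree_C hr0, show q = X ^ 2 + (C (-M.trace) * X + C M.det) from rfl,
      degree_add_eq_left_of_degree_lt (by rw [degree_X_pow]; exact hdeg), degree_X_pow]
    exact_mod_cast Nat.succ_pos 1
  let x := AdjoinRoot.root q
  let y := ι M.trace - x
  have hx : x ^ 2 = ι M.trace * x - ι M.det := by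
    have h0 : q.eval₂ (AdjoinRoot.of q) (AdjoinRoot.root q) = 0 := AdjoinRoot.eval₂_root q
    simp only [q, eval₂_add, eval₂_mul, eval₂_X_pow, eval₂_C, eval₂_X, eval₂_neg, map_neg] at h0
    linear_combination h0
  have hy : y ^ 2 = ι M.trace * y - ι M.det := by
    simp only [y]; linear_combination hx
  have hM : M * M = M.trace • M - M.det • (1 : Matrix (Fin 2) (Fin 2) R) := by
    ext i j
    fin_cases i <;> fin_cases j <;>
      simp [Matrix.mul_apply, Fin.sum_univ_two, Matrix.trace_fin_two, Matrix.det_fin_two] <;> ring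
  have key : ∀ k, ι (M ^ k).trace = x ^ k + y ^ k ∧ ι (M ^ (k + 1)).trace = x ^ (k + 1) + y ^ (k + 1) := by
    intro k
    induction k with
    | zero =>
      refine ⟨?_, by simp [y]⟩
      simp only [pow_zero, Matrix.trace_one, Fintype.card_fin, Nat.cast_ofNat, map_ofNat]
      norm_num
    | succ k ih =>
      refine ⟨ih.2, ?_⟩
      have e : M ^ (k + 1 + 1) = M.trace • M ^ (k + 1) - M.det • M ^ k := by
        rw [pow_succ, pow_succ, mul_assoc, hM, mul_sub, mul_smul_comm, mul_smul_comm, mul_one]
      rw [e, Matrix.trace_sub, Matrix.trace_smul, Matrix.trace_smul, smul_eq_mul, smul_eq_mul, map_sub,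
        map_mul, map_mul, ih.1, ih.2]
      linear_combination -(x ^ k) * hx - y ^ k * hy
  refine hinj ?_
  rw [(key p).1, map_pow, ← add_pow_prime p (by rw [← map_natCast ι p, hp, map_zero]) x y]
  congr 1
  simp [y]

theorem trace_pow_prime {S : Type u} [CommRing S] [Algebra R S] (p : ℕ) [Fact p.Prime] (hp : (p : R) = 0)
    (b : Module.Basis (Fin 2) R S) (a : S) :
    Algebra.trace R S (a ^ p) = Algebra.trace R S a ^ p := by
  rw [Algebra.trace_eq_matrix_trace b, Algebra.trace_eq_matrix_trace b, map_pow]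
  exact trace_pow_prime_fin_two p hp _

end Groth.Agent.FrobTr12
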